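import Cfsg.Agent.Lib.AbelianStar.Fusion
import Cfsg.Agent.Lib.NilBlock.Coef
import Cfsg.Agent.Lib.Contrib.Family
import Mathlib

/-!
# Forms and star products for a block with abelian defect group
-/

set_option autoImplicit false
set_option linter.unusedSectionVars false

namespace Cfsg.Agent.Lib.AbelianStar

open Cfsg
open Cfsg.Agent.Lib
open Cfsg.Agent.Lib.BrauerPairs
open Cfsg.Agent.Lib.NilBlock (bu bu_fst bu_le eq_bu bu_pow con coef pElems mem_pElems)
open scoped ComplexConjugate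

universe u

attribute [local instance] Classical.propDecidable

variable {G : Type u} [Group G] [Fintype G] {p : ℕ} {M : Ideal AlgInt} [Fact p.Prime] [M.IsPrime]
  {B : Set (IrrCharacter G)} {b : BrauerPairIdx G}

/-- The form of `w`, weighted by its orbit. -/
noncomputable def frm (p : ℕ) (M : Ideal AlgInt) (b : BrauerPairIdx G) (w : b.1)
    (χ ψ : IrrCharacter G) : ℂ :=
  ((orb b w).card : ℂ)⁻¹ * con p (w : G) (bu p M b w) χ ψ

theorem conj_frm (w : b.1) (χ ψ : IrrCharacter G) :
    conj (frm p M b w χ ψ) = frm p M b w ψ χ := by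
  simp only [frm, con, map_mul, map_inv₀, Complex.conj_natCast, Contrib.contrib_conj]

/-- A function constant on the orbits of the inertial group. -/
def IsInv (b : BrauerPairIdx G) (θ : b.1 → ℂ) : Prop :=
  ∀ y, InStab b y → ∀ w v : b.1, y * (w : G) * y⁻¹ = (v : G) → θ v = θ w

variable (hM : IsPModular p M) (hmax : IsMaximalBrauerPair p M B b.1 b.2)
  (hab : ∀ x ∈ b.1, ∀ y ∈ b.1, x * y = y * x) {θ : b.1 → ℂ}

include hM hmax hab in
/-- The forms add up to the identity. -/
theorem sum_frm {χ : IrrCharacter G} (hχ : χ ∈ B) (ψ : IrrCharacter G) :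
    ∑ w : b.1, frm p M b w χ ψ = if χ = ψ then 1 else 0 := by
  have h := sum_brauerElements hM hmax hab (fun v a => con p v a χ ψ)
    (fun x v a _ _ => NilBlock.con_conj v x a χ ψ) fun v hv a ha hno => by
      obtain ⟨ha1, ha2⟩ := Star.mem_pairsOn.1 ha
      exact NilBlock.con_eq_zero hM (mem_pElems.1 hv) ha1 ha2 hmax.1.2.1 hno hχ ψ
  have h' : ∑ v ∈ pElems p G, (Nat.card (Subgroup.centralizer (Subgroup.zpowers v : Set G)) : ℂ) *
      ∑ a ∈ Star.pairsOn M (Subgroup.zpowers v), con p v a χ ψ =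
      (Nat.card G : ℂ) * if χ = ψ then 1 else 0 := by
    rw [← Chars.classInner_irr, NilBlock.inner_eq_sum_sections hM hmax]
    refine Finset.sum_congr rfl fun v _ => ?_
    rw [NilBlock.sum_con_pairsOn, ← mul_assoc, mul_inv_cancel₀ Chars.natCard_ne_zero, one_mul]
  rw [h'] at h
  exact mul_left_cancel₀ Chars.natCard_ne_zero h.symm

include hM hmax hab in
theorem coef_eq (hθ : IsInv b θ) {v g : G} {a : BrauerPairIdx G} (w : b.1)
    (hg : g * (w : G) * g⁻¹ = v) (ha : conjPair g (bu p M b w) = a) :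
    coef p M b θ v a = θ w := by
  have h : ∃ g : G, ∃ w : b.1, g * (w : G) * g⁻¹ = v ∧ conjPair g (bu p M b w) = a :=
    ⟨g, w, hg, ha⟩
  rw [coef, dif_pos h]
  obtain ⟨hg', ha'⟩ := h.choose_spec.choose_spec
  generalize h.choose = g', h.choose_spec.choose = w' at hg' ha' ⊢
  obtain ⟨y, hy, hyw⟩ := exists_stab_conj hM hmax hab (g := g⁻¹ * g') w'.2 w.2 (by
    calc g⁻¹ * g' * (w' : G) * (g⁻¹ * g')⁻¹ = g⁻¹ * (g' * (w' : G) * g'⁻¹) * g := by group
      _ = g⁻¹ * (g * (w : G) * g⁻¹) * g := by rw [hg', hg]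
      _ = (w : G) := by group) (by
    rw [← conjPair_mul (NilBlock.isBrauerPairOf_bu hM hmax w'.2).1.2, ha', ← ha,
      conjPair_inv_cancel (NilBlock.isBrauerPairOf_bu hM hmax w.2).1.2])
  exact (hθ y hy w' w hyw).symm

include hM hmax hab in
theorem coef_self (hθ : IsInv b θ) (w : b.1) : coef p M b θ w (bu p M b w) = θ w := by
  refine coef_eq hM hmax hab hθ (g := 1) w (by group) ?_
  rw [NilBlock.conjPair_bu hM hmax w.2 (one_mem _)]
  simp

include hM hmax hab in
theorem coef_conj (hθ : IsInv b θ) (x v : G) {a : BrauerPairIdx G} (ha : IsPBlock M a.2) :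
    coef p M b θ (x * v * x⁻¹) (conjPair x a) = coef p M b θ v a := by
  by_cases h : ∃ g : G, ∃ w : b.1, g * (w : G) * g⁻¹ = v ∧ conjPair g (bu p M b w) = a
  · obtain ⟨g, w, hg, hga⟩ := h
    rw [coef_eq hM hmax hab hθ w hg hga,
      coef_eq hM hmax hab hθ (g := x * g) w (by rw [← hg]; group) (by
        rw [← conjPair_mul (NilBlock.isBrauerPairOf_bu hM hmax w.2).1.2, hga])]
  · rw [coef, coef, dif_neg h, dif_neg]
    rintro ⟨g, w, hg, hga⟩
    refine h ⟨x⁻¹ * g, w, ?_, ?_⟩
    · calc x⁻¹ * g * (w : G) * (x⁻¹ * g)⁻¹ = x⁻¹ * (g * (w : G) * g⁻¹) * x := by group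
        _ = v := by rw [hg]; group
    · rw [← conjPair_mul (NilBlock.isBrauerPairOf_bu hM hmax w.2).1.2, hga, conjPair_inv_cancel ha]

include hM hmax hab in
theorem maps_coef (hθ : IsCharacter b.1 θ) (hθi : IsInv b θ) (σ : GaloisPos.QBar →ₐ[ℚ] ℂ) {k : ℕ}
    (hk : k.Coprime (Nat.card G))
    (hkK : ∀ (K : Subgroup G) (η : K → ℂ), IsCharacter K η → ∀ g : K,
      Star.Maps σ (η g) (η (g ^ k)))
    (v : G) (a : BrauerPairIdx G) :
    Star.Maps σ (coef p M b θ v a) (coef p M b θ (v ^ k) a) := by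
  have hord : ∀ z : G, (orderOf z).Coprime k := fun z =>
    (Nat.Coprime.coprime_dvd_right (orderOf_dvd_natCard z) hk).symm
  by_cases h : ∃ g : G, ∃ w : b.1, g * (w : G) * g⁻¹ = v ∧ conjPair g (bu p M b w) = a
  · obtain ⟨g, w, hg, hga⟩ := h
    rw [coef_eq hM hmax hab hθi w hg hga,
      coef_eq hM hmax hab hθi (g := g) (w ^ k) (by rw [← hg, conj_pow]; rfl) (by
        rw [SubmonoidClass.coe_pow, bu_pow hM hmax.1.1 w.2 (hord _), hga])]
    exact hkK b.1 θ hθ w
  · rw [coef, coef, dif_neg h, dif_neg]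
    · exact Star.maps_zero
    rintro ⟨g, w, hg, hga⟩
    obtain ⟨m, hm⟩ := exists_pow_eq_self_of_coprime (hord v).symm
    refine h ⟨g, w ^ m, by rw [SubmonoidClass.coe_pow, ← conj_pow, hg, hm], ?_⟩
    rw [SubmonoidClass.coe_pow, bu_pow hM hmax.1.1 w.2 ?_, hga]
    obtain ⟨j, hj⟩ := NilBlock.exists_orderOf_eq hM hmax w.2
    have hwv : orderOf (w : G) = orderOf v := by
      rw [← ((hord v).orderOf_pow), ← hg]
      exact ((MulAut.conj g).orderOf_eq (w : G)).symm
    have h1 : orderOf (v ^ (k * m)) = orderOf v := by rw [pow_mul, hm]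
    rw [hwv]
    rcases Nat.eq_zero_or_pos (k * m) with h0 | h0
    · rw [h0, pow_zero, orderOf_one] at h1
      rw [← h1]
      exact Nat.coprime_one_left _
    · rw [orderOf_pow' _ h0.ne'] at h1
      exact Nat.Coprime.coprime_dvd_right (dvd_mul_left m k)
        ((Nat.div_eq_self.1 h1).resolve_left (orderOf_pos v).ne')

include hM hmax hab in
theorem isGeneralizedCharacter_star (hθ : IsCharacter b.1 θ) (hθi : IsInv b θ) {χ : G → ℂ}
    (hχ : IsCharacter G χ) :
    IsGeneralizedCharacter G (Star.starFun M p (coef p M b θ) χ) := by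
  refine Star.isGeneralizedCharacter_starFun hM (fun v a => ?_)
    (fun x u a _ ha => coef_conj hM hmax hab hθi x u ha)
    (fun σ k hk hkK u a _ _ => maps_coef hM hmax hab hθ hθi σ hk hkK u a) (fun d hd => ?_) hχ
  · rw [coef]
    split_ifs
    · exact Chars.isCharacter_isIntegral hθ _
    · exact isIntegral_zero
  · by_cases hdB : IsBrauerPairOf p M B d.1 d.2
    · obtain ⟨x, hx⟩ := exists_conj_pairLE_max (a := b) (b := d) hM hmax hdB
      have hmap : ∀ u ∈ d.1, x * u * x⁻¹ ∈ b.1 := fun u hu =>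
        pairLE_fst_le hx (Subgroup.mem_map_of_mem (MulAut.conj x).toMonoidHom hu)
      let φ : d.1 →* b.1 :=
        { toFun := fun u => ⟨x * u * x⁻¹, hmap u u.2⟩
          map_one' := Subtype.ext (by simp)
          map_mul' := fun u v => Subtype.ext (by simp [mul_assoc]) }
      refine ⟨fun u => θ (φ u), Star.spn_comp φ (Star.spn_mono (Star.intRing_le_localRing M)
        (Star.spn_of_isCharacter hθ)), fun u a ha hle => ?_⟩
      rw [← coef_conj hM hmax hab hθi x u (IsPair.of_pairLE hd hle).2]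
      have hfst : (conjPair x a).1 = Subgroup.zpowers (x * (u : G) * x⁻¹) := by
        rw [conjPair_fst, ha, MonoidHom.map_zpowers]
        rfl
      rw [eq_bu hM hmax.1.1 (hmap u u.2) ((pairLE_conj hle x).trans hx) hfst]
      exact (coef_self hM hmax hab hθi (φ u)).symm
    · refine ⟨fun _ => 0, Star.spn_zero, fun u a _ hle => ?_⟩
      symm
      by_contra hne
      exact hdB ((BrauerMap.isBrauerPairOf_iff_of_subpairLE hM hle hd hmax.1.2.1).2
        (NilBlock.isBrauerPairOf_of_coef_ne_zero hM hmax hne))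

include hM hmax hab in
/-- The inner products of a star product. -/
theorem classInner_star (hθi : IsInv b θ) {χ : IrrCharacter G} (hχ : χ ∈ B)
    (ψ : IrrCharacter G) :
    classInner (Star.starFun M p (coef p M b θ) (χ : G → ℂ)) (ψ : G → ℂ) =
      ∑ w : b.1, θ w * frm p M b w χ ψ := by
  have h := sum_brauerElements hM hmax hab (fun v a => coef p M b θ v a * con p v a χ ψ)
    (fun x v a _ ha => by rw [coef_conj hM hmax hab hθi x v ha, NilBlock.con_conj])
    fun v hv a ha hno => by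
      obtain ⟨ha1, ha2⟩ := Star.mem_pairsOn.1 ha
      rw [NilBlock.con_eq_zero hM (mem_pElems.1 hv) ha1 ha2 hmax.1.2.1 hno hχ ψ, mul_zero]
  have h' : ∑ v ∈ pElems p G, (Nat.card (Subgroup.centralizer (Subgroup.zpowers v : Set G)) : ℂ) *
      ∑ a ∈ Star.pairsOn M (Subgroup.zpowers v), coef p M b θ v a * con p v a χ ψ =
      (Nat.card G : ℂ) * classInner (Star.starFun M p (coef p M b θ) (χ : G → ℂ)) (ψ : G → ℂ) := by
    rw [NilBlock.inner_eq_sum_sections hM hmax]
    refine Finset.sum_congr rfl fun v hv => ?_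
    have hstar : ∀ c : Subgroup.centralizer (Subgroup.zpowers v : Set G), ¬ p ∣ orderOf c →
        Star.starFun M p (coef p M b θ) (χ : G → ℂ) (v * (c : G)) =
          ∑ a ∈ Star.pairsOn M (Subgroup.zpowers v),
            coef p M b θ v a * Star.part a (χ : G → ℂ) (v * (c : G)) := fun c hc =>
      Star.starFun_apply (Blocks.Sections.isPPart_mul p (mem_pElems.1 hv)
        (Subgroup.mem_centralizer_iff.1 c.2 v (Subgroup.mem_zpowers v))
        (by rwa [Subgroup.orderOf_coe]))
    rw [Finset.mul_sum]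
    calc _ = ∑ a ∈ Star.pairsOn M (Subgroup.zpowers v), coef p M b θ v a *
          ∑ c : Subgroup.centralizer (Subgroup.zpowers v : Set G),
            if p ∣ orderOf c then 0 else Star.part a (χ : G → ℂ) (v * (c : G)) *
              conj ((ψ : G → ℂ) (v * (c : G))) := by
          refine Finset.sum_congr rfl fun a ha => ?_
          obtain ⟨Q, f⟩ := a
          obtain ⟨rfl, ha2⟩ := Star.mem_pairsOn.1 ha
          rw [NilBlock.sum_part_mul_conj hM (a := ⟨Subgroup.zpowers v, f⟩) rfl ha2]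
          ring
      _ = _ := by
          simp only [Finset.mul_sum]
          rw [Finset.sum_comm]
          refine Finset.sum_congr rfl fun c _ => ?_
          by_cases hc : p ∣ orderOf c
          · simp [hc]
          · simp only [if_neg hc, hstar c hc, Finset.sum_mul, mul_assoc]
  rw [h'] at h
  refine mul_left_cancel₀ (Chars.natCard_ne_zero (G := G)) (h.trans ?_)
  refine congrArg _ (Finset.sum_congr rfl fun w _ => ?_)
  rw [coef_self hM hmax hab hθi, frm]
  ring

include hM hmax hab in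
/-- Forms of elements in different orbits are orthogonal. -/
theorem sum_frm_mul_eq_zero {w v : b.1} (hne : v ∉ orb b w) (χ ψ : IrrCharacter G) :
    ∑ φ ∈ B.toFinset, frm p M b w χ φ * frm p M b v φ ψ = 0 := by
  suffices h : ∑ φ ∈ B.toFinset,
      con p (w : G) (bu p M b w) χ φ * con p (v : G) (bu p M b v) φ ψ = 0 by
    simp only [frm]
    rw [Finset.sum_congr rfl fun φ _ => mul_mul_mul_comm _ _ _ _, ← Finset.mul_sum, h, mul_zero]
  have hwk := NilBlock.exists_orderOf_eq hM hmax w.2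
  have hvk := NilBlock.exists_orderOf_eq hM hmax v.2
  by_cases hg : IsConj (v : G) (w : G)
  · obtain ⟨g, hg⟩ := isConj_iff.1 hg
    have hg' : g⁻¹ * (w : G) * (g⁻¹)⁻¹ = (v : G) := by rw [← hg]; group
    set a := conjPair g⁻¹ (bu p M b w) with ha
    have haB : IsBrauerPairOf p M B a.1 a.2 :=
      isBrauerPairOf_conj (NilBlock.isBrauerPairOf_bu hM hmax w.2) _
    have ha1 : a.1 = Subgroup.zpowers (v : G) := by
      rw [ha, conjPair_fst, bu_fst, MonoidHom.map_zpowers, ← hg']
      rfl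
    rw [Finset.sum_congr rfl fun φ _ => by
      rw [← NilBlock.con_conj (w : G) g⁻¹ (bu p M b w) χ φ, hg']]
    exact NilBlock.sum_con_mul_con_of_ne hM hvk ha1 (bu_fst _)
      (fun h => hne (mem_orb.2 (exists_stab_conj hM hmax hab w.2 v.2 hg' h))) haB
      (NilBlock.isBrauerPairOf_bu hM hmax v.2).1.2 χ ψ
  · exact NilBlock.sum_con_mul_con_of_not_isConj hM hwk hvk hg (bu_fst _) (bu_fst _)
      (NilBlock.isBrauerPairOf_bu hM hmax w.2) χ ψ

include hM hmax in
theorem frm_of_mem_orb {w v : b.1} (h : v ∈ orb b w) (χ ψ : IrrCharacter G) :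
    frm p M b v χ ψ = frm p M b w χ ψ := by
  obtain ⟨y, hy, hyv⟩ := mem_orb.1 h
  rw [frm, frm, orb_eq hmax h, ← hyv, ← conjPair_bu_stab hM hmax hy w.2, NilBlock.con_conj]

include hM hmax hab in
theorem sum_frm_mul (w : b.1) (χ ψ : IrrCharacter G) :
    ∑ φ ∈ B.toFinset, frm p M b w χ φ * frm p M b w φ ψ =
      ((orb b w).card : ℂ)⁻¹ * frm p M b w χ ψ := by
  simp only [frm, con]
  rw [← Contrib.sum_contrib_mul hM (NilBlock.exists_orderOf_eq hM hmax w.2)
    (NilBlock.centralizer_bu (w : G)) (NilBlock.isInducedBlock_bu hM hmax w.2) χ ψ]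
  simp only [Finset.mul_sum]
  exact Finset.sum_congr rfl fun φ _ => by ring

include hM hmax in
theorem sum_frm_diag (w : b.1) :
    ∑ χ ∈ B.toFinset, frm p M b w χ χ =
      ((orb b w).card : ℂ)⁻¹ * (blockRank p (bu p M b w).2 : ℂ) := by
  simp only [frm, con, ← Finset.mul_sum]
  rw [Contrib.sum_contrib_self hM (NilBlock.exists_orderOf_eq hM hmax w.2)
    (NilBlock.centralizer_bu (w : G)) (NilBlock.isInducedBlock_bu hM hmax w.2)]

/-- The pair below `b` is induced inside its centralizer. -/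
theorem isInducedBlockIn_bu (hM : IsPModular p M) (hmax : IsMaximalBrauerPair p M B b.1 b.2)
    (hab : ∀ x ∈ b.1, ∀ y ∈ b.1, x * y = y * x) {u : G} (hu : u ∈ b.1) :
    IsInducedBlockIn M (Subgroup.centralizer ((bu p M b u).1 : Set G))
      (Subgroup.centralizer (b.1 : Set G)) b.2 (bu p M b u).2 := by
  have hQ : (bu p M b u).1 ≤ b.1 := by rw [bu_fst]; exact Subgroup.zpowers_le.2 hu
  obtain ⟨f, hf⟩ := LocalInertial.exists_induced hM hab hQ hmax.1.1.1 hmax.1.1.2
  have hn := LocalInertial.normalSubpair hM (le_centralizer_of_comm hab hQ) hQ hmax.1.1.1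
    hmax.1.1.2 hf
  have h : (⟨(bu p M b u).1, f⟩ : BrauerPairIdx G) = bu p M b u :=
    pairLE_unique hM hmax.1.1 (Relation.ReflTransGen.single hn) (bu_le hM hmax.1.1 hu) rfl
  have h' : f = (bu p M b u).2 := sigma_mk_injective (i := (bu p M b u).1) h
  exact h' ▸ hf

include hM hmax hab in
/-- Every subsection is major. -/
theorem blockDefect_bu {u : G} (hu : u ∈ b.1) :
    blockDefect p (bu p M b u).2 = blockDefect p B := by
  have hQ : (bu p M b u).1 ≤ b.1 := by rw [bu_fst]; exact Subgroup.zpowers_le.2 hu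
  have hPC := le_centralizer_of_comm hab hQ
  haveI := Fintype.ofFinite (Subgroup.centralizer ((bu p M b u).1 : Set G))
  have hf := isInducedBlockIn_bu hM hmax hab hu
  have hD := isDefectGroup_of_isMaximal hM (a := ⟨_, LocalInertial.subBlock hPC hQ b.2⟩)
    (LocalInertial.isMaximal_sub hM hPC hQ hmax hf)
  have h1 := BrauerFeit.card_defectGroup hM hf.2.1 hD
  rw [Nat.card_congr (Subgroup.subgroupOfEquivOfLe hPC).toEquiv, NilBlock.card_eq hM hmax] at h1
  exact (Nat.pow_right_injective (Fact.out : p.Prime).two_le h1).symm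

include hM hmax hab in
/-- No form vanishes on a character of the block. -/
theorem exists_pos_frm_self (w : b.1) {χ : IrrCharacter G} (hχ : χ ∈ B) :
    ∃ r : ℝ, 0 < r ∧ frm p M b w χ χ = (r : ℂ) := by
  refine ⟨((orb b w).card : ℝ)⁻¹ * ∑ ξ ∈ (bu p M b w).2.toFinset,
    Complex.normSq (Contrib.secCoef p (w : G) χ ξ), mul_pos (inv_pos.2 (Nat.cast_pos.2
      (orb_card_pos hmax w))) ((Finset.sum_nonneg fun _ _ => Complex.normSq_nonneg _).lt_of_ne'
      fun hzero => ?_), ?_⟩
  · obtain ⟨j, hj⟩ := NilBlock.exists_orderOf_eq hM hmax w.2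
    have hC := NilBlock.centralizer_bu (p := p) (M := M) (b := b) (w : G)
    have hind := NilBlock.isInducedBlock_bu hM hmax w.2
    obtain ⟨F, lam, -, hF, -, -, -, hlR, hlU, hl⟩ := Contrib.exists_family hM hj hC hind
    obtain ⟨ψ, hψ, h0⟩ := Blocks.exists_height_zero (p := p) hmax.1.2.1
    refine (Contrib.major_facts hM hj hC hind (blockDefect_bu hM hmax hab w.2) hF hlR hlU hl).2 χ hχ
      ψ hψ h0 ?_
    rw [hF χ ψ 1 hM.1.not_dvd_one, pow_one, Contrib.contrib, Finset.sum_eq_zero, mul_zero]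
    intro ξ hξ
    rw [Complex.normSq_eq_zero.1
      ((Finset.sum_eq_zero_iff_of_nonneg fun _ _ => Complex.normSq_nonneg _).1 hzero ξ hξ), zero_mul]
  · simp only [frm, con, Contrib.contrib, Complex.mul_conj]
    push_cast
    rfl

end Cfsg.Agent.Lib.AbelianStar
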