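import Cfsg.Agent.Lib.NilBlock.Form
import Cfsg.Agent.Lib.BrauerPairs.LocalInertial
import Mathlib

/-!
# Subsections of a block with abelian defect group

They correspond to the orbits of the inertial group on the maximal pair.
-/

set_option autoImplicit false
set_option linter.unusedSectionVars false

namespace Cfsg.Agent.Lib.AbelianStar

open Cfsg MonoidAlgebra
open Cfsg.Agent.Lib
open Cfsg.Agent.Lib.BrauerPairs
open Cfsg.Agent.Lib.BrauerMap (fixedRing core brHom)
open Cfsg.Agent.Lib.Blocks (Residue)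
open Cfsg.Agent.Lib.NilBlock (bu bu_fst bu_le eq_bu con pElems mem_pElems)

universe u

attribute [local instance] Classical.propDecidable

variable {G : Type u} [Group G] [Fintype G] {p : ℕ} {M : Ideal AlgInt} [Fact p.Prime] [M.IsPrime]
  {B : Set (IrrCharacter G)} {b : BrauerPairIdx G}

/-- The inertial group of the maximal pair. -/
def InStab (b : BrauerPairIdx G) (y : G) : Prop := conjPair y b = b

theorem inStab_iff (h : IsPBlock M b.2) {y : G} : InStab b y ↔ y ∈ pairStab h := Iff.rfl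

theorem InStab.mul (h : IsPBlock M b.2) {x y : G} (hx : InStab b x) (hy : InStab b y) :
    InStab b (x * y) := (inStab_iff h).2 (mul_mem ((inStab_iff h).1 hx) ((inStab_iff h).1 hy))

theorem InStab.inv (h : IsPBlock M b.2) {x : G} (hx : InStab b x) : InStab b x⁻¹ :=
  (inStab_iff h).2 (inv_mem ((inStab_iff h).1 hx))

theorem inStab_one (h : IsPBlock M b.2) : InStab b 1 := (inStab_iff h).2 (one_mem _)

theorem InStab.conj_mem {y x : G} (hy : InStab b y) (hx : x ∈ b.1) : y * x * y⁻¹ ∈ b.1 := by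
  have h : b.1.map (MulAut.conj y).toMonoidHom = b.1 := congrArg Sigma.fst hy
  rw [← h]
  exact ⟨x, hx, rfl⟩

variable (hM : IsPModular p M) (hmax : IsMaximalBrauerPair p M B b.1 b.2)
  (hab : ∀ x ∈ b.1, ∀ y ∈ b.1, x * y = y * x)

include hM hmax hab in
/-- Fusion below an abelian maximal pair is induced by the inertial group. -/
theorem exists_stab_conj_pair {a a' : BrauerPairIdx G} (ha : PairLE p M a b)
    (ha' : PairLE p M a' b) {g : G} (hg : conjPair g a = a') :
    ∃ y : G, InStab b y ∧ ∀ x ∈ a.1, y * x * y⁻¹ = g * x * g⁻¹ := by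
  classical
  have hb : IsPair p M b := hmax.1.1
  have hap := IsPair.of_pairLE hb ha'
  set C := Subgroup.centralizer (a'.1 : Set G) with hC
  have hPC : b.1 ≤ C := le_centralizer_of_comm hab (pairLE_fst_le ha')
  have key : ∀ d : BrauerPairIdx G, PairLE p M d b → NormalSubpairRel p M d b := by
    intro d hd
    obtain ⟨f, hf, hfb⟩ := exists_normal_between hM hb hd (R := b.1) (pairLE_fst_le hd) le_rfl
      ((le_centralizer_of_comm hab (pairLE_fst_le hd)).trans (Subgroup.centralizer_le_normalizer _))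
    rwa [pairLE_unique hM hb (a := ⟨b.1, f⟩) hfb Relation.ReflTransGen.refl rfl] at hf
  have hnab : NormalSubpairRel p M a' b := key a' ha'
  obtain ⟨ξ₀, hξ₀⟩ := Blocks.isPBlock_nonempty hap.2
  have hcore : core a'.1 ≤ C := sup_le ((pairLE_fst_le ha').trans hPC) le_rfl
  set ω : fixedRing M C →+* Residue M :=
    (brHom hM hap.1 ξ₀).comp (Subring.inclusion (BrauerMap.fixedRing_anti hcore)) with hω
  have hfor : IsPairFor hM C ω a' := ⟨hap.1, hcore, hap.2, fun ξ hξ z => by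
    rw [BrauerMap.brHom_eq_of_sameBlock hM hap.1 (Blocks.sameBlock_of_mem hap.2 hξ hξ₀)]
    rfl⟩
  have hbmax : IsMaxFor hM C ω b := by
    refine ⟨isPairFor_of_normal hfor hnab hPC, fun c hc hbc => ?_⟩
    exact hmax.2 c.1 c.2 ((BrauerMap.isBrauerPairOf_iff_of_subpairLE hM (Q := b.1) (P := c.1)
      hbc hc.isPair hmax.1.2.1).2 hmax.1) hbc
  have hn' : NormalSubpairRel p M a' (conjPair g b) := hg ▸ normalSubpairRel_conj (key a ha) g
  have hxC : (conjPair g b).1 ≤ C := by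
    rintro _ ⟨q, hq, rfl⟩
    refine Subgroup.mem_centralizer_iff.2 fun z hz => ?_
    have hz' : z ∈ a.1.map (MulAut.conj g).toMonoidHom := by
      rw [← conjPair_fst, hg]
      exact hz
    obtain ⟨x, hx, rfl⟩ := hz'
    rw [← map_mul, ← map_mul, hab x (pairLE_fst_le ha hx) q hq]
  have hxfor : IsPairFor hM C ω (conjPair g b) := isPairFor_of_normal hfor hn' hxC
  have hxmax : IsMaxFor hM C ω (conjPair g b) := ⟨hxfor, fun c hc hle =>
    (Subgroup.eq_of_le_of_card_ge (pairLE_fst_le hle)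
      ((card_le_of_isMaxFor hbmax hc).trans (card_map_conj b.1 g).ge)).symm⟩
  obtain ⟨k, hk, hkb⟩ := exists_conj_eq hxmax hbmax
  rw [conjPair_mul hb.2] at hkb
  refine ⟨k * g, hkb, fun x hx => ?_⟩
  have hx' : g * x * g⁻¹ ∈ a'.1 := hg ▸ ⟨x, hx, rfl⟩
  calc k * g * x * (k * g)⁻¹ = k * (g * x * g⁻¹) * k⁻¹ := by group
    _ = g * x * g⁻¹ := by rw [← Subgroup.mem_centralizer_iff.1 hk _ hx', mul_inv_cancel_right]

include hM hmax in
theorem conjPair_bu_stab {y u : G} (hy : InStab b y) (hu : u ∈ b.1) :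
    conjPair y (bu p M b u) = bu p M b (y * u * y⁻¹) := by
  have h := pairLE_conj (bu_le hM hmax.1.1 hu) y
  rw [show conjPair y b = b from hy] at h
  refine eq_bu hM hmax.1.1 (hy.conj_mem hu) h ?_
  rw [conjPair_fst, bu_fst, MonoidHom.map_zpowers]
  rfl

include hM hmax hab in
theorem exists_stab_conj {u u' g : G} (hu : u ∈ b.1) (hu' : u' ∈ b.1) (hg : g * u * g⁻¹ = u')
    (hb : conjPair g (bu p M b u) = bu p M b u') : ∃ y, InStab b y ∧ y * u * y⁻¹ = u' := by
  obtain ⟨y, hy, h⟩ := exists_stab_conj_pair hM hmax hab (bu_le hM hmax.1.1 hu)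
    (bu_le hM hmax.1.1 hu') hb
  exact ⟨y, hy, (h u ((bu_fst (p := p) (M := M) (b := b) u).symm ▸ Subgroup.mem_zpowers u)).trans hg⟩

/-- The orbit of an element of the pair under the inertial group. -/
noncomputable def orb (b : BrauerPairIdx G) (w : b.1) : Finset b.1 :=
  Finset.univ.filter fun v => ∃ y, InStab b y ∧ y * (w : G) * y⁻¹ = (v : G)

theorem mem_orb {w v : b.1} :
    v ∈ orb b w ↔ ∃ y, InStab b y ∧ y * (w : G) * y⁻¹ = (v : G) := by simp [orb]

include hmax in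
theorem self_mem_orb (w : b.1) : w ∈ orb b w :=
  mem_orb.2 ⟨1, inStab_one hmax.1.1.2, by simp⟩

include hmax in
theorem orb_card_pos (w : b.1) : 0 < (orb b w).card :=
  Finset.card_pos.2 ⟨w, self_mem_orb hmax w⟩

include hmax in
theorem orb_eq {w v : b.1} (h : v ∈ orb b w) : orb b v = orb b w := by
  obtain ⟨y, hy, hyv⟩ := mem_orb.1 h
  ext z
  rw [mem_orb, mem_orb]
  constructor
  · rintro ⟨x, hx, hxz⟩
    exact ⟨x * y, InStab.mul hmax.1.1.2 hx hy, by rw [← hxz, ← hyv]; group⟩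
  · rintro ⟨x, hx, hxz⟩
    exact ⟨x * y⁻¹, InStab.mul hmax.1.1.2 hx (InStab.inv hmax.1.1.2 hy), by
      rw [← hxz, ← hyv]; group⟩

include hM hmax hab in
/-- Counting the Brauer elements of the block through the orbits. -/
theorem sum_brauerElements (K : G → BrauerPairIdx G → ℂ)
    (hK : ∀ (x v : G) (a : BrauerPairIdx G), a.1 = Subgroup.zpowers v → IsPBlock M a.2 →
      K (x * v * x⁻¹) (conjPair x a) = K v a)
    (hK0 : ∀ v ∈ pElems p G, ∀ a ∈ Star.pairsOn M (Subgroup.zpowers v),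
      ¬ IsBrauerPairOf p M B a.1 a.2 → K v a = 0) :
    ∑ v ∈ pElems p G, (Nat.card (Subgroup.centralizer (Subgroup.zpowers v : Set G)) : ℂ) *
        ∑ a ∈ Star.pairsOn M (Subgroup.zpowers v), K v a =
      (Nat.card G : ℂ) * ∑ w : b.1, ((orb b w).card : ℂ)⁻¹ * K w (bu p M b w) := by
  have hblock : ∀ w : b.1, IsPBlock M (bu p M b w).2 := fun w =>
    (NilBlock.isBrauerPairOf_bu hM hmax w.2).1.2
  set Φ : G × b.1 → (Σ _ : G, BrauerPairIdx G) := fun q =>
    ⟨q.1 * (q.2 : G) * q.1⁻¹, conjPair q.1 (bu p M b q.2)⟩ with hΦ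
  set T : Finset (Σ _ : G, BrauerPairIdx G) :=
    ((pElems p G).sigma fun v => Star.pairsOn M (Subgroup.zpowers v)).filter
      fun x => IsBrauerPairOf p M B x.2.1 x.2.2 with hT
  have hmaps : ∀ q : G × b.1, Φ q ∈ T := by
    intro q
    obtain ⟨k, hk⟩ := NilBlock.exists_orderOf_eq hM hmax q.2.2
    refine Finset.mem_filter.2 ⟨Finset.mem_sigma.2 ⟨mem_pElems.2 ⟨k, ?_⟩,
      Star.mem_pairsOn.2 ⟨?_, isPBlock_conjPair (hblock q.2) _⟩⟩,
      isBrauerPairOf_conj (NilBlock.isBrauerPairOf_bu hM hmax q.2.2) _⟩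
    · show orderOf ((MulAut.conj q.1) (q.2 : G)) = _
      rw [MulEquiv.orderOf_eq, hk]
    · show (bu p M b q.2).1.map (MulAut.conj q.1).toMonoidHom = _
      rw [bu_fst, MonoidHom.map_zpowers]
      rfl
  have hfib : ∀ x ∈ T, ∑ q ∈ Finset.univ.filter (fun q : G × b.1 => Φ q = x),
      ((orb b q.2).card : ℂ)⁻¹ * K q.2 (bu p M b q.2) =
      (Nat.card (Subgroup.centralizer (Subgroup.zpowers x.1 : Set G)) : ℂ) * K x.1 x.2 := by
    rintro ⟨v, a⟩ hx
    simp only [hT, Finset.mem_filter, Finset.mem_sigma, Star.mem_pairsOn] at hx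
    obtain ⟨g₀, w₀, hw₀, rfl, rfl⟩ := NilBlock.exists_conj_bu hM hmax hx.1.2.1 hx.2
    set w : b.1 := ⟨w₀, hw₀⟩
    set D := Subgroup.centralizer (Subgroup.zpowers (g₀ * w₀ * g₀⁻¹) : Set G)
    have hmem : ∀ q : G × b.1, Φ q = ⟨g₀ * w₀ * g₀⁻¹, conjPair g₀ (bu p M b w₀)⟩ →
        q.2 ∈ orb b w := by
      intro q hq
      simp only [hΦ, Sigma.mk.injEq, heq_eq_eq] at hq
      refine mem_orb.2 (exists_stab_conj hM hmax hab (g := q.1⁻¹ * g₀) hw₀ q.2.2 ?_ ?_)
      · calc q.1⁻¹ * g₀ * w₀ * (q.1⁻¹ * g₀)⁻¹ = q.1⁻¹ * (g₀ * w₀ * g₀⁻¹) * q.1 := by group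
          _ = q.1⁻¹ * (q.1 * (q.2 : G) * q.1⁻¹) * q.1 := by rw [hq.1]
          _ = (q.2 : G) := by group
      · rw [← conjPair_mul (hblock w), ← hq.2, conjPair_inv_cancel (hblock q.2)]
    choose y hy hyv using fun v : orb b w => mem_orb.1 v.2
    have hcard : (Finset.univ.filter fun q : G × b.1 =>
        Φ q = ⟨g₀ * w₀ * g₀⁻¹, conjPair g₀ (bu p M b w₀)⟩).card =
          Nat.card D * (orb b w).card := by
      rw [Nat.card_eq_fintype_card, ← Fintype.card_coe (orb b w), ← Fintype.card_prod,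
        ← Fintype.card_coe]
      refine Fintype.card_congr
        { toFun := fun q => (⟨q.1.1 * y ⟨q.1.2, hmem q.1 (Finset.mem_filter.1 q.2).2⟩ * g₀⁻¹, ?_⟩,
            ⟨q.1.2, hmem q.1 (Finset.mem_filter.1 q.2).2⟩)
          invFun := fun cv => ⟨((cv.1 : G) * g₀ * (y cv.2)⁻¹, cv.2), ?_⟩
          left_inv := fun q => Subtype.ext (Prod.ext (by group) rfl)
          right_inv := fun cv => Prod.ext (Subtype.ext (by group)) rfl }
      · have hq := (Finset.mem_filter.1 q.2).2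
        simp only [hΦ, Sigma.mk.injEq, heq_eq_eq] at hq
        show _ ∈ Subgroup.centralizer (Subgroup.zpowers (g₀ * w₀ * g₀⁻¹) : Set G)
        rw [centralizer_zpowers, Subgroup.mem_centralizer_singleton_iff]
        set z := y ⟨q.1.2, hmem q.1 (Finset.mem_filter.1 q.2).2⟩
        have hz : z * w₀ * z⁻¹ = (q.1.2 : G) := hyv ⟨q.1.2, _⟩
        calc q.1.1 * z * g₀⁻¹ * (g₀ * w₀ * g₀⁻¹)
            = q.1.1 * (z * w₀ * z⁻¹) * q.1.1⁻¹ * (q.1.1 * z * g₀⁻¹) := by group
          _ = _ := by rw [hz, hq.1]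
      · refine Finset.mem_filter.2 ⟨Finset.mem_univ _, ?_⟩
        have hc : (cv.1 : G) * (g₀ * w₀ * g₀⁻¹) = g₀ * w₀ * g₀⁻¹ * (cv.1 : G) :=
          (Subgroup.mem_centralizer_iff.1 cv.1.2 _ (Subgroup.mem_zpowers _)).symm
        have hst : conjPair (cv.1 : G) (conjPair g₀ (bu p M b w₀)) =
            conjPair g₀ (bu p M b w₀) :=
          core_le_pairStab (isPBlock_conjPair (hblock w) g₀) (Subgroup.mem_sup_right (by
            rw [hx.1.2.1]
            exact cv.1.2))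
        simp only [hΦ, Sigma.mk.injEq, heq_eq_eq]
        constructor
        · rw [← hyv cv.2]
          calc (cv.1 : G) * g₀ * (y cv.2)⁻¹ * (y cv.2 * w₀ * (y cv.2)⁻¹) *
                ((cv.1 : G) * g₀ * (y cv.2)⁻¹)⁻¹
              = ((cv.1 : G) * (g₀ * w₀ * g₀⁻¹)) * (cv.1 : G)⁻¹ := by group
            _ = g₀ * w₀ * g₀⁻¹ := by rw [hc, mul_inv_cancel_right]
        · rw [← hyv cv.2, ← conjPair_bu_stab hM hmax (hy cv.2) hw₀, conjPair_mul (hblock w),
            inv_mul_cancel_right, ← conjPair_mul (hblock w), hst]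
    have hconst : ∀ q ∈ Finset.univ.filter (fun q : G × b.1 =>
        Φ q = ⟨g₀ * w₀ * g₀⁻¹, conjPair g₀ (bu p M b w₀)⟩),
        ((orb b q.2).card : ℂ)⁻¹ * K q.2 (bu p M b q.2) =
          ((orb b w).card : ℂ)⁻¹ * K (g₀ * w₀ * g₀⁻¹) (conjPair g₀ (bu p M b w₀)) := by
      intro q hq
      have hq' := (Finset.mem_filter.1 hq).2
      simp only [hΦ, Sigma.mk.injEq, heq_eq_eq] at hq'
      rw [orb_eq hmax (hmem q (Finset.mem_filter.1 hq).2), ← hq'.1, ← hq'.2,
        hK q.1 q.2 _ (bu_fst _) (hblock q.2)]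
    rw [Finset.sum_congr rfl hconst, Finset.sum_const, nsmul_eq_mul, hcard, Nat.cast_mul,
      mul_assoc, mul_inv_cancel_left₀ (Nat.cast_ne_zero.2 (orb_card_pos hmax w).ne')]
  have hsum := Finset.sum_fiberwise_of_maps_to (s := (Finset.univ : Finset (G × b.1))) (t := T)
    (g := Φ) (fun q _ => hmaps q) fun q => ((orb b q.2).card : ℂ)⁻¹ * K q.2 (bu p M b q.2)
  rw [Finset.sum_congr rfl hfib, Fintype.sum_prod_type] at hsum
  simp only [Finset.sum_const, Finset.card_univ, nsmul_eq_mul, Fintype.card_eq_nat_card] at hsum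
  rw [← hsum, hT, Finset.sum_filter_of_ne, Finset.sum_sigma]
  · exact Finset.sum_congr rfl fun v _ => by rw [Finset.mul_sum]
  · intro x hx hne
    by_contra hno
    obtain ⟨h1, h2⟩ := Finset.mem_sigma.1 hx
    exact hne (by rw [hK0 _ h1 _ h2 hno, mul_zero])

end Cfsg.Agent.Lib.AbelianStar
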