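import Cfsg.Agent.Lib.AbelianStar.Forms
import Cfsg.Agent.Lib.KleinBlock.Basic
import Cfsg.Agent.Lib.BrauerPairs.LocalInertial
import Mathlib

/-!
# The maximal pair seen inside the centralizer of one of its elements
-/

set_option autoImplicit false
set_option linter.unusedSectionVars false

namespace Cfsg.Agent.Lib.AbelianStar

open Cfsg
open Cfsg.Agent.Lib
open Cfsg.Agent.Lib.BrauerPairs
open Cfsg.Agent.Lib.NilBlock (bu bu_fst bu_le eq_bu centralizer_bu)

universe u

attribute [local instance] Classical.propDecidable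

variable {G : Type u} [Group G] [Fintype G] {p : ℕ} {M : Ideal AlgInt} [Fact p.Prime] [M.IsPrime]
  {B : Set (IrrCharacter G)} {b : BrauerPairIdx G}

/-- A block induces at most one block inside a subgroup. -/
theorem isInducedBlockIn_unique {H K : Subgroup G} {c : Set (IrrCharacter K)}
    {f f' : Set (IrrCharacter H)} (h : IsInducedBlockIn M H K c f)
    (h' : IsInducedBlockIn M H K c f') : f = f' := by
  obtain ⟨ξ, hξ⟩ := Blocks.isPBlock_nonempty h.1
  obtain ⟨χ, hχ⟩ := Blocks.isPBlock_nonempty h.2.1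
  obtain ⟨χ', hχ'⟩ := Blocks.isPBlock_nonempty h'.2.1
  refine Blocks.isPBlock_eq_of_mem h.2.1 h'.2.1 hχ (Blocks.mem_of_sameBlock h'.2.1 hχ' fun g => ?_)
  have h1 := Blocks.memLocalIdeal_sub (h.2.2 ξ hξ χ hχ g) (h'.2.2 ξ hξ χ' hχ' g)
  rwa [sub_sub_sub_cancel_left] at h1

/-- `n` is the rank of the block of `K` induced from the pair. -/
def HasRank (p : ℕ) (M : Ideal AlgInt) (b : BrauerPairIdx G) (K : Subgroup G) (n : ℕ) : Prop :=
  ∃ g : Set (IrrCharacter K), IsInducedBlockIn M K (Subgroup.centralizer (b.1 : Set G)) b.2 g ∧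
    blockRank p g = n

theorem HasRank.unique {K K' : Subgroup G} {n n' : ℕ} (h : HasRank p M b K n)
    (h' : HasRank p M b K' n') (e : K = K') : n = n' := by
  subst e
  obtain ⟨g, hg, rfl⟩ := h
  obtain ⟨g', hg', rfl⟩ := h'
  rw [isInducedBlockIn_unique hg hg']

/-- Induction inside a subgroup of a subgroup. -/
theorem hasRank_of_sub {D P : Subgroup G} {P' : Subgroup D}
    {c : Set (IrrCharacter (Subgroup.centralizer (P : Set G)))} (hc : IsPBlock M c)
    (e : Subgroup.centralizer (P : Set G) ≃* Subgroup.centralizer (P' : Set D))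
    (he : ∀ k, (((e k : Subgroup.centralizer (P' : Set D)) : D) : G) = (k : G))
    {L : Subgroup D} {f : Set (IrrCharacter L)}
    (hf : IsInducedBlockIn M L (Subgroup.centralizer (P' : Set D)) (Chars.irrCongr e.symm '' c) f) :
    HasRank p M ⟨P, c⟩ (L.map D.subtype) (blockRank p f) := by
  set eL := L.equivMapOfInjective D.subtype D.subtype_injective
  have heL : ∀ l : L, ((eL l : L.map D.subtype) : G) = ((l : D) : G) := fun l => rfl
  refine ⟨Chars.irrCongr eL.symm '' f, ⟨hc, BrauerMap.isPBlock_image_irrCongr _ hf.2.1, ?_⟩,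
    KleinBlock.blockRank_image _ _⟩
  rintro ξ hξ _ ⟨χ, hχ, rfl⟩ h
  obtain ⟨l, rfl⟩ := eL.surjective h
  have h1 := hf.2.2 _ ⟨ξ, hξ, rfl⟩ χ hχ l
  rw [show (Chars.irrCongr eL.symm χ : L.map D.subtype → ℂ) = fun y => (χ : L → ℂ) (eL.symm y)
    from rfl, BrauerMap.centralChar_comp_mulEquiv, eL.symm_apply_apply]
  refine (congrArg (fun z => MemLocalIdeal M (z - centralChar (χ : L → ℂ) l)) ?_).mp h1
  unfold inducedCentralCharIn
  refine finsum_mem_eq_of_bijOn e.symm ⟨fun k hk => ?_, e.symm.injective.injOn, fun k hk => ?_⟩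
    fun k _ => by simp [BrauerMap.irrCongr_apply]
  · obtain ⟨x, hx⟩ := hk
    refine ⟨eL x, ?_⟩
    rw [heL, heL, ← hx, Subgroup.coe_mul, Subgroup.coe_mul, Subgroup.coe_inv, ← he (e.symm k),
      e.apply_symm_apply]
  · obtain ⟨x, hx⟩ := hk
    obtain ⟨x, rfl⟩ := eL.surjective x
    refine ⟨e k, ⟨x, Subtype.ext ?_⟩, e.symm_apply_apply k⟩
    rw [Subgroup.coe_mul, Subgroup.coe_mul, Subgroup.coe_inv, he]
    rw [heL, heL] at hx
    exact hx

variable (hM : IsPModular p M) (hmax : IsMaximalBrauerPair p M B b.1 b.2)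
  (hab : ∀ x ∈ b.1, ∀ y ∈ b.1, x * y = y * x)

include hM hmax hab in
/-- Every subsection carries the rank of the induced block. -/
theorem hasRank_bu {v : G} (hv : v ∈ b.1) :
    HasRank p M b (Subgroup.centralizer ({v} : Set G)) (blockRank p (bu p M b v).2) := by
  have key : ∀ K : Subgroup G, K = Subgroup.centralizer ((bu p M b v).1 : Set G) →
      HasRank p M b K (blockRank p (bu p M b v).2) := by
    rintro K rfl
    exact ⟨_, isInducedBlockIn_bu hM hmax hab hv, rfl⟩
  exact key _ (centralizer_bu v).symm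

theorem zpowers_le_pair {v : G} (hv : v ∈ b.1) : (bu p M b v).1 ≤ b.1 := by
  rw [bu_fst]
  exact Subgroup.zpowers_le.2 hv

theorem le_cent (hab : ∀ x ∈ b.1, ∀ y ∈ b.1, x * y = y * x) {v : G} (hv : v ∈ b.1) :
    b.1 ≤ Subgroup.centralizer ((bu p M b v).1 : Set G) :=
  le_centralizer_of_comm hab (zpowers_le_pair hv)

/-- The maximal pair as a pair of the centralizer of `v`. -/
noncomputable def locPair (p : ℕ) (M : Ideal AlgInt) [Fact p.Prime] [M.IsPrime]
    (b : BrauerPairIdx G) (hab : ∀ x ∈ b.1, ∀ y ∈ b.1, x * y = y * x) {v : G} (hv : v ∈ b.1) :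
    BrauerPairIdx (Subgroup.centralizer ((bu p M b v).1 : Set G)) :=
  ⟨b.1.subgroupOf _, LocalInertial.subBlock (le_cent hab hv) (zpowers_le_pair hv) b.2⟩

theorem mem_locPair {v : G} (hv : v ∈ b.1)
    {x : Subgroup.centralizer ((bu p M b v).1 : Set G)} :
    x ∈ (locPair p M b hab hv).1 ↔ (x : G) ∈ b.1 := Subgroup.mem_subgroupOf

theorem locPair_comm {v : G} (hv : v ∈ b.1) :
    ∀ x ∈ (locPair p M b hab hv).1, ∀ y ∈ (locPair p M b hab hv).1, x * y = y * x :=
  fun x hx y hy => Subtype.ext (hab x hx y hy)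

include hM hmax in
theorem isMaximal_locPair {v : G} (hv : v ∈ b.1) :
    IsMaximalBrauerPair p M (bu p M b v).2 (locPair p M b hab hv).1 (locPair p M b hab hv).2 :=
  LocalInertial.isMaximal_sub hM (le_cent hab hv) (zpowers_le_pair hv) hmax
    (isInducedBlockIn_bu hM hmax hab hv)

include hM hmax in
/-- The inertial group of the local pair. -/
theorem inStab_locPair_iff {v : G} (hv : v ∈ b.1)
    (x : Subgroup.centralizer ((bu p M b v).1 : Set G)) :
    InStab (locPair p M b hab hv) x ↔ InStab b (x : G) := by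
  rw [inStab_iff hmax.1.1.2, inStab_iff (isMaximal_locPair hM hmax hab hv).1.1.2,
    mem_pairStab_iff_stabilizesBlock, mem_pairStab_iff_stabilizesBlock]
  have hPC := le_cent (p := p) (M := M) hab hv
  have hQP := zpowers_le_pair (p := p) (M := M) hv
  refine and_congr (LocalInertial.mem_normalizer_sub hPC x) ⟨fun h => ⟨?_, fun χ hχ => ?_⟩,
    fun h => ⟨?_, ?_⟩⟩
  · refine Subgroup.mem_normalizer_iff.2 fun y => ⟨fun hy => ?_, fun hy => ?_⟩
    · have hy' : y ∈ Subgroup.centralizer ((bu p M b v).1 : Set G) :=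
        BrauerMap.centralizer_anti hQP hy
      exact Subgroup.mem_centralizer_iff.2 fun z hz => congrArg Subtype.val
        (Subgroup.mem_centralizer_iff.1 ((Subgroup.mem_normalizer_iff.1 h.1 ⟨y, hy'⟩).1
          (Subgroup.mem_centralizer_iff.2 fun z hz => Subtype.ext
            (Subgroup.mem_centralizer_iff.1 hy (z : G) hz))) ⟨z, hPC hz⟩ hz)
    · have hy' : y ∈ Subgroup.centralizer ((bu p M b v).1 : Set G) := by
        have := mul_mem (mul_mem (inv_mem x.2) (BrauerMap.centralizer_anti hQP hy)) x.2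
        simpa [mul_assoc] using this
      exact Subgroup.mem_centralizer_iff.2 fun z hz => congrArg Subtype.val
        (Subgroup.mem_centralizer_iff.1 ((Subgroup.mem_normalizer_iff.1 h.1 ⟨y, hy'⟩).2
          (Subgroup.mem_centralizer_iff.2 fun z hz => Subtype.ext
            (Subgroup.mem_centralizer_iff.1 hy (z : G) hz))) ⟨z, hPC hz⟩ hz)
  · obtain ⟨_, ⟨χ', hχ', rfl⟩, hcc⟩ := h.2 _ ⟨χ, hχ, rfl⟩
    refine ⟨χ', hχ', fun k k' hk => ?_⟩
    have := hcc (LocalInertial.sub hPC hQP k) (LocalInertial.sub hPC hQP k') (Subtype.ext hk)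
    simpa [BrauerMap.irrCongr_apply] using this
  · exact Subgroup.mem_normalizer_iff.2 fun y => by
      have h1 := Subgroup.mem_normalizer_iff.1 h.1 (y : G)
      constructor <;> intro hy <;> refine Subgroup.mem_centralizer_iff.2 fun z hz => Subtype.ext ?_
      · exact Subgroup.mem_centralizer_iff.1 (h1.1 (Subgroup.mem_centralizer_iff.2 fun w hw =>
          congrArg Subtype.val (Subgroup.mem_centralizer_iff.1 hy ⟨w, hPC hw⟩ hw))) (z : G) hz
      · exact Subgroup.mem_centralizer_iff.1 (h1.2 (Subgroup.mem_centralizer_iff.2 fun w hw =>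
          congrArg Subtype.val (Subgroup.mem_centralizer_iff.1 hy ⟨w, hPC hw⟩ hw))) (z : G) hz
  · rintro _ ⟨χ, hχ, rfl⟩
    obtain ⟨χ', hχ', hcc⟩ := h.2 χ hχ
    refine ⟨_, ⟨χ', hχ', rfl⟩, fun k k' hk => ?_⟩
    exact hcc _ _ (congrArg Subtype.val hk)

include hM hmax in
/-- A subsection of the local pair. -/
theorem hasRank_bu_locPair {v : G} (hv : v ∈ b.1) {w : G} (hw : w ∈ b.1)
    (w' : Subgroup.centralizer ((bu p M b v).1 : Set G)) (hw' : (w' : G) = w) :
    HasRank p M b (Subgroup.centralizer ({v} : Set G) ⊓ Subgroup.centralizer ({w} : Set G))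
      (blockRank p (bu p M (locPair p M b hab hv) w').2) := by
  have hmem : w' ∈ (locPair p M b hab hv).1 := (mem_locPair hab hv).2 (hw' ▸ hw)
  have hmax' := isMaximal_locPair hM hmax hab hv
  have h := hasRank_of_sub (p := p) hmax.1.1.2
    (LocalInertial.sub (le_cent hab hv) (zpowers_le_pair hv)) (fun k => rfl)
    (isInducedBlockIn_bu hM hmax' (locPair_comm hab hv) hmem)
  have key : ∀ K : Subgroup G, K = (Subgroup.centralizer
      ((bu p M (locPair p M b hab hv) w').1 : Set _)).map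
        (Subgroup.centralizer ((bu p M b v).1 : Set G)).subtype →
      HasRank p M b K (blockRank p (bu p M (locPair p M b hab hv) w').2) := by
    rintro K rfl
    exact h
  refine key _ ?_
  rw [centralizer_bu (b := locPair p M b hab hv)]
  ext x
  simp only [Subgroup.mem_inf, Subgroup.mem_map, Subgroup.mem_centralizer_singleton_iff,
    Subgroup.coe_subtype, Subtype.exists]
  constructor
  · rintro ⟨h1, h2⟩
    refine ⟨x, by rw [centralizer_bu]; exact Subgroup.mem_centralizer_singleton_iff.2 h1,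
      Subtype.ext (by simpa [hw'] using h2), rfl⟩
  · rintro ⟨y, hy, h2, rfl⟩
    rw [centralizer_bu, Subgroup.mem_centralizer_singleton_iff] at hy
    exact ⟨hy, by simpa [hw'] using congrArg Subtype.val h2⟩

end Cfsg.Agent.Lib.AbelianStar
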