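import Cfsg.Agent.Lib.AbelianStar.Trace
import Cfsg.Agent.Lib.AbelianStar.Nested
import Mathlib

/-!
# An element of an abelian defect group fixed by the inertial group

The block and its subsection at such an element have the same number of ordinary and of modular
characters.
-/

set_option autoImplicit false
set_option linter.unusedSectionVars false

namespace Cfsg.Agent.Lib.AbelianStar

open Cfsg
open Cfsg.Agent.Lib
open Cfsg.Agent.Lib.BrauerPairs
open Cfsg.Agent.Lib.NilBlock (bu bu_fst centralizer_bu)

universe u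

attribute [local instance] Classical.propDecidable

section

variable {G : Type u} [Group G] [Fintype G] {p : ℕ} {M : Ideal AlgInt} [Fact p.Prime] [M.IsPrime]
  {B : Set (IrrCharacter G)} {b : BrauerPairIdx G}

variable (hM : IsPModular p M) (hmax : IsMaximalBrauerPair p M B b.1 b.2)
  (hab : ∀ x ∈ b.1, ∀ y ∈ b.1, x * y = y * x)

/-- An element fixed by the inertial group. -/
def IsFixed (b : BrauerPairIdx G) (u : G) : Prop := ∀ y, InStab b y → y * u * y⁻¹ = u

include hM hmax in
theorem blockRank_bu_of_mem_center {v : G} (hv : v ∈ b.1) (hc : v ∈ Subgroup.center G) :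
    blockRank p (bu p M b v).2 = blockRank p B :=
  (KleinBlock.rank_of_top (by
    rw [centralizer_bu]
    exact (Subgroup.eq_top_iff' _).2 fun g =>
      Subgroup.mem_centralizer_singleton_iff.2 (Subgroup.mem_center_iff.1 hc g))
    (NilBlock.isInducedBlock_bu hM hmax hv)).1

theorem card_orb_mul (U r : b.1) (hfix : IsFixed b (U : G)) :
    (orb b (U * r)).card = (orb b r).card := by
  have h : ∀ y, InStab b y → ∀ z : G, y * ((U : G) * z) * y⁻¹ = (U : G) * (y * z * y⁻¹) := by
    intro y hy z
    calc y * ((U : G) * z) * y⁻¹ = (y * (U : G) * y⁻¹) * (y * z * y⁻¹) := by group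
      _ = _ := by rw [hfix y hy]
  refine Finset.card_nbij' (U⁻¹ * ·) (U * ·) (fun v hv => ?_) (fun v hv => ?_)
    (fun v _ => mul_inv_cancel_left U v) fun v _ => inv_mul_cancel_left U v
  · obtain ⟨y, hy, hv⟩ := mem_orb.1 hv
    refine mem_orb.2 ⟨y, hy, ?_⟩
    rw [Subgroup.coe_mul, Subgroup.coe_inv, ← hv, Subgroup.coe_mul, h y hy, inv_mul_cancel_left]
  · obtain ⟨y, hy, hv⟩ := mem_orb.1 hv
    refine mem_orb.2 ⟨y, hy, ?_⟩
    rw [Subgroup.coe_mul, Subgroup.coe_mul, ← hv, h y hy]

include hmax in
theorem card_orb_one : (orb b (1 : b.1)).card = 1 :=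
  Finset.card_eq_one.2 ⟨1, Finset.eq_singleton_iff_unique_mem.2 ⟨self_mem_orb hmax 1, fun v hv => by
    obtain ⟨y, -, hv⟩ := mem_orb.1 hv
    exact Subtype.ext (by simpa using hv.symm)⟩⟩

theorem centralizer_mul_inf {u r : G} (h : u * r = r * u) :
    Subgroup.centralizer ({u * r} : Set G) ⊓ Subgroup.centralizer ({u} : Set G) =
      Subgroup.centralizer ({r} : Set G) ⊓ Subgroup.centralizer ({u} : Set G) := by
  ext x
  simp only [Subgroup.mem_inf, Subgroup.mem_centralizer_singleton_iff]
  refine ⟨fun hx => ⟨?_, hx.2⟩, fun hx => ⟨?_, hx.2⟩⟩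
  · have h1 : x * r = x * u⁻¹ * (u * r) := by group
    have h2 : x * u⁻¹ = u⁻¹ * x := by
      calc x * u⁻¹ = u⁻¹ * (u * x) * u⁻¹ := by group
        _ = u⁻¹ * (x * u) * u⁻¹ := by rw [hx.2]
        _ = u⁻¹ * x := by group
    rw [h1, h2, mul_assoc, hx.1]
    group
  · rw [← mul_assoc, hx.2, mul_assoc, hx.1, mul_assoc]

end

/-- The rank of the block and of its subsection at a fixed element agree. -/
theorem blockRank_eq_aux {p : ℕ} [Fact p.Prime] {M : Ideal AlgInt} [M.IsPrime]
    (hM : IsPModular p M) : ∀ (n : ℕ) (G : Type u) [Group G] [Fintype G]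
    (B : Set (IrrCharacter G)) (b : BrauerPairIdx G), Nat.card G = n →
    IsMaximalBrauerPair p M B b.1 b.2 → (∀ x ∈ b.1, ∀ y ∈ b.1, x * y = y * x) →
    ∀ u ∈ b.1, IsFixed b u → blockRank p B = blockRank p (bu p M b u).2 := by
  intro n
  induction n using Nat.strong_induction_on with
  | _ n ih =>
    intro G _ _ B b hn hmax hab u hu hfix
    obtain ⟨π, hπinv, hπfix, hπim⟩ := exists_proj hM hmax hab
    set U : b.1 := ⟨u, hu⟩ with hU
    have hπU : π U = U := hπfix U hfix
    have hsum := (card_range_mul_sum_fibre hM hmax hab π hπinv (one_mem _)).trans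
      (card_range_mul_sum_fibre hM hmax hab π hπinv ⟨U, hπU⟩).symm
    replace hsum := mul_left_cancel₀ (Nat.cast_ne_zero.2 Nat.card_pos.ne') hsum
    have hshift : ∑ w ∈ Finset.univ.filter (fun w => π w = U), secWeight p M b w =
        ∑ r ∈ Finset.univ.filter (fun w => π w = 1), secWeight p M b (U * r) := by
      refine Finset.sum_nbij' (U⁻¹ * ·) (U * ·) (fun w hw => ?_) (fun w hw => ?_)
        (fun w _ => mul_inv_cancel_left U w) (fun w _ => inv_mul_cancel_left U w)
        fun w _ => by rw [mul_inv_cancel_left]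
      · simp only [Finset.mem_coe, Finset.mem_filter, Finset.mem_univ, true_and] at hw ⊢
        rw [map_mul, map_inv, hπU, hw, inv_mul_cancel]
      · simp only [Finset.mem_coe, Finset.mem_filter, Finset.mem_univ, true_and] at hw ⊢
        rw [map_mul, hπU, hw, mul_one]
    rw [hshift] at hsum
    have hrank : ∀ z : b.1, ¬ IsFixed b (z : G) → HasRank p M b
        (Subgroup.centralizer ({(z : G)} : Set G) ⊓ Subgroup.centralizer ({u} : Set G))
        (blockRank p (bu p M b z).2) := by
      intro z hz
      have hlt : Nat.card (Subgroup.centralizer ((bu p M b z).1 : Set G)) < n := by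
        rw [← hn, centralizer_bu]
        refine lt_of_le_of_ne (Subgroup.card_le_card_group _) fun h => hz fun y _ => ?_
        have hy : y ∈ Subgroup.centralizer ({(z : G)} : Set G) :=
          (Subgroup.card_eq_iff_eq_top _).1 h ▸ Subgroup.mem_top y
        rw [Subgroup.mem_centralizer_singleton_iff.1 hy, mul_inv_cancel_right]
      let u' : Subgroup.centralizer ((bu p M b z).1 : Set G) := ⟨u, le_cent hab z.2 hu⟩
      rw [ih _ hlt _ _ (locPair p M b hab z.2) rfl (isMaximal_locPair hM hmax hab z.2)
        (locPair_comm hab z.2) u' ((mem_locPair hab z.2).2 hu) fun y hy =>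
          Subtype.ext (hfix y ((inStab_locPair_iff hM hmax hab z.2 y).1 hy))]
      exact hasRank_bu_locPair hM hmax hab z.2 hu u' rfl
    have hterm : ∀ r ∈ (Finset.univ.filter fun w => π w = 1).erase (1 : b.1),
        secWeight p M b r = secWeight p M b (U * r) := by
      intro r hr
      simp only [Finset.mem_erase, Finset.mem_filter, Finset.mem_univ, true_and] at hr
      have hr' : ¬ IsFixed b (r : G) := fun h => hr.1 ((hπfix r h).symm.trans hr.2)
      have hur' : ¬ IsFixed b ((U * r : b.1) : G) := fun h => hr' fun y hy => by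
        have := h y hy
        rw [Subgroup.coe_mul] at this
        calc y * (r : G) * y⁻¹ = (y * u * y⁻¹)⁻¹ * (y * (u * (r : G)) * y⁻¹) := by group
          _ = r := by rw [hfix y hy, this, inv_mul_cancel_left]
      rw [secWeight, secWeight, card_orb_mul U r hfix,
        (hrank r hr').unique (hrank _ hur') (by
          rw [Subgroup.coe_mul]
          exact (centralizer_mul_inf (hab u hu r r.2)).symm)]
    have h1 : (1 : b.1) ∈ Finset.univ.filter fun w => π w = 1 := by simp
    rw [← Finset.add_sum_erase _ _ h1, ← Finset.add_sum_erase _ _ h1,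
      Finset.sum_congr rfl hterm, add_left_inj, secWeight, secWeight, card_orb_mul U 1 hfix,
      card_orb_one hmax, mul_one U] at hsum
    simp only [Nat.cast_one, inv_one, one_mul, Nat.cast_inj] at hsum
    rw [← hsum, Subgroup.coe_one]
    exact (blockRank_bu_of_mem_center hM hmax (one_mem _) (one_mem _)).symm

variable {G : Type u} [Group G] [Fintype G] {p : ℕ} {M : Ideal AlgInt} [Fact p.Prime] [M.IsPrime]
  {B : Set (IrrCharacter G)} {b : BrauerPairIdx G}

variable (hM : IsPModular p M) (hmax : IsMaximalBrauerPair p M B b.1 b.2)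
  (hab : ∀ x ∈ b.1, ∀ y ∈ b.1, x * y = y * x)

include hM hmax hab in
theorem blockRank_eq_blockRank_bu {u : G} (hu : u ∈ b.1) (hfix : IsFixed b u) :
    blockRank p B = blockRank p (bu p M b u).2 :=
  blockRank_eq_aux hM _ G B b rfl hmax hab u hu hfix

include hM hmax hab in
theorem card_eq_card_bu {u : G} (hu : u ∈ b.1) (hfix : IsFixed b u) :
    Nat.card B = Nat.card (bu p M b u).2 := by
  obtain ⟨π, hπinv, -, -⟩ := exists_proj hM hmax hab
  set b' := locPair p M b hab hu with hb'
  haveI := Fintype.ofFinite (Subgroup.centralizer ((bu p M b u).1 : Set G))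
  have hmax' := isMaximal_locPair hM hmax hab hu
  let e : b'.1 ≃* b.1 := Subgroup.subgroupOfEquivOfLe (le_cent hab hu)
  have he : ∀ x : b'.1, ((e x : b.1) : G) =
      ((x : Subgroup.centralizer ((bu p M b u).1 : Set G)) : G) := fun x => rfl
  let π' : b'.1 →* b'.1 := e.symm.toMonoidHom.comp (π.comp e.toMonoidHom)
  have hπ'inv : ∀ y, InStab b' y → ∀ w v : b'.1, y * (w : _) * y⁻¹ = (v : _) → π' v = π' w := by
    intro y hy w v h
    exact congrArg e.symm (hπinv _ ((inStab_locPair_iff hM hmax hab hu y).1 hy) (e w) (e v)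
      (congrArg Subtype.val h))
  have horb : ∀ w : b'.1, (orb b' w).card = (orb b (e w)).card := by
    intro w
    refine Finset.card_equiv e.toEquiv fun v => ?_
    rw [mem_orb, mem_orb]
    constructor
    · rintro ⟨y, hy, h⟩
      exact ⟨y, (inStab_locPair_iff hM hmax hab hu y).1 hy, congrArg Subtype.val h⟩
    · rintro ⟨y, hy, h⟩
      have hyC : y ∈ Subgroup.centralizer ((bu p M b u).1 : Set G) := by
        rw [centralizer_bu, Subgroup.mem_centralizer_singleton_iff]
        exact mul_inv_eq_iff_eq_mul.1 (hfix y hy)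
      exact ⟨⟨y, hyC⟩, (inStab_locPair_iff hM hmax hab hu ⟨y, hyC⟩).2 hy, Subtype.ext h⟩
  have hweight : ∀ w : b'.1, secWeight p M b' w = secWeight p M b (e w) := by
    intro w
    rw [secWeight, secWeight, horb]
    have hr : (e w : G) ∈ b.1 := (e w).2
    have h1 := hasRank_bu_locPair hM hmax hab hu hr (w : Subgroup.centralizer ((bu p M b u).1 : Set G)) (he w).symm
    let u' : Subgroup.centralizer ((bu p M b (e w : G)).1 : Set G) := ⟨u, le_cent hab hr hu⟩
    haveI := Fintype.ofFinite (Subgroup.centralizer ((bu p M b (e w : G)).1 : Set G))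
    have h2 := hasRank_bu_locPair hM hmax hab hr hu u' rfl
    rw [← blockRank_eq_aux hM _ _ _ _ rfl (isMaximal_locPair hM hmax hab hr) (locPair_comm hab hr) u'
      ((mem_locPair hab hr).2 hu) fun y hy =>
        Subtype.ext (hfix y ((inStab_locPair_iff hM hmax hab hr y).1 hy))] at h2
    rw [h1.unique h2 (inf_comm _ _)]
  have hrange : Nat.card π'.range = Nat.card π.range := by
    rw [show π'.range = π.range.map e.symm.toMonoidHom by
      rw [MonoidHom.range_comp, MonoidHom.range_comp, MonoidHom.range_eq_top.2 e.surjective,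
        ← MonoidHom.range_eq_map]]
    exact Subgroup.card_map_of_injective e.symm.injective
  have h := card_range_mul_sum_fibre hM hmax hab π hπinv (one_mem _)
  have h' := card_range_mul_sum_fibre hM hmax' (locPair_comm hab hu) π' hπ'inv (one_mem _)
  have key : (Nat.card B : ℂ) = (Nat.card (bu p M b u).2 : ℂ) := by
    rw [← h, ← h', hrange]
    congr 1
    refine (Finset.sum_equiv e.toEquiv (fun w => ?_) fun w _ => hweight w).symm
    simp only [Finset.mem_filter, Finset.mem_univ, true_and]
    exact map_eq_one_iff e.symm.toMonoidHom e.symm.injective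
  exact_mod_cast key

end Cfsg.Agent.Lib.AbelianStar
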