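import Cfsg.Agent.Lib.AbelianStar.Forms
import Cfsg.Agent.Lib.BrauerPairs.CyclicInertia
import Mathlib

/-!
# Invariant linear characters act freely on a block with abelian defect group

Hence the subsections are spread evenly over the fibres of an invariant projection of the maximal
pair.
-/

set_option autoImplicit false
set_option linter.unusedSectionVars false

namespace Cfsg.Agent.Lib.AbelianStar

open Cfsg
open Cfsg.Agent.Lib
open Cfsg.Agent.Lib.BrauerPairs
open Cfsg.Agent.Lib.NilBlock (bu con coef)
open scoped ComplexConjugate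

universe u

attribute [local instance] Classical.propDecidable

variable {G : Type u} [Group G] [Fintype G] {p : ℕ} {M : Ideal AlgInt} [Fact p.Prime] [M.IsPrime]
  {B : Set (IrrCharacter G)} {b : BrauerPairIdx G}

theorem norm_hom_apply {H : Type u} [Group H] [Finite H] (l : H →* ℂˣ) (w : H) :
    ‖(l w : ℂ)‖ = 1 := by
  refine Complex.norm_eq_one_of_pow_eq_one (n := Nat.card H) ?_ Nat.card_pos.ne'
  rw [← Units.val_pow_eq_pow_val, ← map_pow, pow_card_eq_one', map_one, Units.val_one]

/-- The value of a subsection in the count of characters. -/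
noncomputable def secWeight (p : ℕ) (M : Ideal AlgInt) (b : BrauerPairIdx G) (w : b.1) : ℂ :=
  ((orb b w).card : ℂ)⁻¹ * (blockRank p (bu p M b w).2 : ℂ)

variable (hM : IsPModular p M) (hmax : IsMaximalBrauerPair p M B b.1 b.2)
  (hab : ∀ x ∈ b.1, ∀ y ∈ b.1, x * y = y * x)

include hM hmax hab in
/-- An invariant linear character moves every member of the block. -/
theorem sum_hom_mul_frm_self {l : b.1 →* ℂˣ} (hl : IsInv b fun w => (l w : ℂ)) (hne : l ≠ 1)
    {χ : IrrCharacter G} (hχ : χ ∈ B) :
    ∑ w : b.1, (l w : ℂ) * frm p M b w χ χ = 0 := by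
  have hT : ∀ φ : IrrCharacter G, ∃ n : ℤ, ∑ w : b.1, (l w : ℂ) * frm p M b w χ φ = n := by
    intro φ
    rw [← classInner_star hM hmax hab hl hχ φ]
    exact Chars.isGeneralizedCharacter_classInner_int
      (isGeneralizedCharacter_star hM hmax hab (Chars.isCharacter_hom l) hl (Chars.irr_isCharacter χ))
      (Chars.isGeneralizedCharacter_of_isCharacter (Chars.irr_isCharacter φ))
  choose n hn using hT
  have hn' : ∀ φ, ∑ w : b.1, conj (l w : ℂ) * frm p M b w φ χ = n φ := fun φ => by
    have h := congrArg conj (hn φ)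
    simpa only [map_sum, map_mul, conj_frm, map_intCast] using h
  have hsq : ∑ φ ∈ B.toFinset, n φ * n φ = 1 := by
    have h : ((∑ φ ∈ B.toFinset, n φ * n φ : ℤ) : ℂ) = 1 := by
      calc ((∑ φ ∈ B.toFinset, n φ * n φ : ℤ) : ℂ)
          = ∑ φ ∈ B.toFinset, (∑ w : b.1, (l w : ℂ) * frm p M b w χ φ) *
              ∑ v : b.1, conj (l v : ℂ) * frm p M b v φ χ := by
            push_cast
            exact Finset.sum_congr rfl fun φ _ => by rw [hn, hn']
        _ = ∑ w : b.1, ∑ v : b.1, (l w : ℂ) * conj (l v : ℂ) *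
              ∑ φ ∈ B.toFinset, frm p M b w χ φ * frm p M b v φ χ := by
            rw [Finset.sum_congr rfl fun φ _ => Finset.sum_mul_sum _ _ _ _, Finset.sum_comm]
            refine Finset.sum_congr rfl fun w _ => ?_
            rw [Finset.sum_comm]
            refine Finset.sum_congr rfl fun v _ => ?_
            rw [Finset.mul_sum]
            exact Finset.sum_congr rfl fun φ _ => by ring
        _ = ∑ w : b.1, frm p M b w χ χ := by
            refine Finset.sum_congr rfl fun w _ => ?_
            rw [← Finset.sum_subset (Finset.subset_univ (orb b w)) fun v _ hv => by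
              rw [sum_frm_mul_eq_zero hM hmax hab hv, mul_zero]]
            rw [Finset.sum_congr rfl (g := fun _ => ((orb b w).card : ℂ)⁻¹ * frm p M b w χ χ)
              fun v hv => ?_, Finset.sum_const, nsmul_eq_mul,
              mul_inv_cancel_left₀ (Nat.cast_ne_zero.2 (orb_card_pos hmax w).ne')]
            obtain ⟨y, hy, hyv⟩ := mem_orb.1 hv
            rw [show (l v : ℂ) = l w from hl y hy w v hyv, Complex.mul_conj,
              Complex.normSq_eq_norm_sq, norm_hom_apply]
            simp only [frm_of_mem_orb hM hmax hv, sum_frm_mul hM hmax hab]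
            simp
        _ = 1 := by rw [sum_frm hM hmax hab hχ, if_pos rfl]
    exact_mod_cast h
  choose r hr0 hr using fun w : b.1 => exists_pos_frm_self hM hmax hab w hχ
  have hsum : ∑ w, r w = 1 := by
    have h := sum_frm hM hmax hab hχ χ
    rw [if_pos rfl] at h
    simp only [hr] at h
    exact_mod_cast h
  have hre : ∑ w : b.1, (l w : ℂ).re * r w = (n χ : ℝ) := by
    have h := congrArg Complex.re (hn χ)
    simp only [hr, Complex.re_sum, Complex.re_mul_ofReal, Complex.intCast_re] at h
    exact h
  have hbound : ∀ w : b.1, |(l w : ℂ).re| ≤ 1 := fun w =>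
    (Complex.abs_re_le_norm _).trans (norm_hom_apply l w).le
  have hle : n χ * n χ ≤ 1 := hsq ▸ Finset.single_le_sum (f := fun φ => n φ * n φ)
    (fun φ _ => mul_self_nonneg _) (Set.mem_toFinset.2 hχ)
  have h1 : n χ ≠ 1 := by
    intro he
    rw [he, Int.cast_one, ← hsum, ← sub_eq_zero, ← Finset.sum_sub_distrib] at hre
    have hz := (Finset.sum_eq_zero_iff_of_nonpos fun w _ => by
      nlinarith [abs_le.1 (hbound w), hr0 w]).1 hre
    refine hne (MonoidHom.ext fun w => Units.ext ?_)
    have h2 : (l w : ℂ).re = 1 := by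
      have := hz w (Finset.mem_univ w)
      have h3 : ((l w : ℂ).re - 1) * r w = 0 := by linarith
      exact sub_eq_zero.1 ((mul_eq_zero.1 h3).resolve_right (hr0 w).ne')
    have h3 : (l w : ℂ).im = 0 := by
      have := Complex.normSq_eq_norm_sq (l w : ℂ)
      rw [norm_hom_apply, Complex.normSq_apply, h2] at this
      nlinarith
    exact Complex.ext (by simpa using h2) (by simpa using h3)
  have h2 : n χ ≠ -1 := by
    intro he
    have h : ∑ w : b.1, ((l w : ℂ).re + 1) * r w = 0 := by
      rw [Finset.sum_congr rfl fun w _ => add_mul _ _ _, Finset.sum_add_distrib, hre, he]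
      simp [hsum]
    have hz := (Finset.sum_eq_zero_iff_of_nonneg fun w _ => by
      nlinarith [abs_le.1 (hbound w), hr0 w]).1 h 1 (Finset.mem_univ _)
    simp at hz
    linarith [hr0 1]
  have h3 : -1 ≤ n χ ∧ n χ ≤ 1 := ⟨by nlinarith, by nlinarith⟩
  rw [hn χ, show n χ = 0 by omega, Int.cast_zero]

include hM hmax hab in
theorem sum_hom_mul_secWeight (l : b.1 →* ℂˣ) (hl : IsInv b fun w => (l w : ℂ)) :
    ∑ w : b.1, (l w : ℂ) * secWeight p M b w =
      if l = 1 then (Nat.card B : ℂ) else 0 := by
  have h : ∑ w : b.1, (l w : ℂ) * secWeight p M b w =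
      ∑ χ ∈ B.toFinset, ∑ w : b.1, (l w : ℂ) * frm p M b w χ χ := by
    rw [Finset.sum_comm]
    refine Finset.sum_congr rfl fun w _ => ?_
    rw [← Finset.mul_sum, sum_frm_diag hM hmax, secWeight]
  rw [h]
  split_ifs with h1
  · subst h1
    rw [Finset.sum_congr rfl (g := fun _ => (1 : ℂ)) fun χ hχ => by
      simp [sum_frm hM hmax hab (Set.mem_toFinset.1 hχ)]]
    rw [Finset.sum_const, nsmul_eq_mul, mul_one, Nat.card_eq_card_toFinset]
  · exact Finset.sum_eq_zero fun χ hχ => sum_hom_mul_frm_self hM hmax hab hl h1 (Set.mem_toFinset.1 hχ)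

theorem sum_monoidHom_units {C : Type u} [CommGroup C] [Fintype C] [Fintype (C →* ℂˣ)] (a : C) :
    ∑ μ : C →* ℂˣ, (μ a : ℂ) = if a = 1 then (Nat.card C : ℂ) else 0 := by
  split_ifs with ha
  · subst ha
    simp only [map_one, Units.val_one, Finset.sum_const, Finset.card_univ, nsmul_eq_mul, mul_one,
      Fintype.card_eq_nat_card]
    rw [Chars.card_monoidHom_units, show commutator C = ⊥ from
      (commutator_eq_bot_iff_center_eq_top _).2 CommGroup.center_eq_top, Subgroup.index_bot]
  · have : HasEnoughRootsOfUnity ℂ (Monoid.exponent C) := inferInstance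
    obtain ⟨l₀, hl₀⟩ := CommGroup.exists_apply_ne_one_of_hasEnoughRootsOfUnity C ℂ ha
    refine eq_zero_of_mul_eq_self_left (b := (l₀ a : ℂ)) (fun h => hl₀ (Units.ext h)) ?_
    rw [Finset.mul_sum]
    exact Fintype.sum_bijective (l₀ * ·) (Group.mulLeft_bijective l₀) _ _ fun μ => by simp

include hM hmax hab in
/-- The subsections are spread evenly over the fibres of an invariant projection. -/
theorem card_range_mul_sum_fibre (π : b.1 →* b.1)
    (hπ : ∀ y, InStab b y → ∀ w v : b.1, y * (w : G) * y⁻¹ = (v : G) → π v = π w)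
    {c : b.1} (hc : c ∈ π.range) :
    (Nat.card π.range : ℂ) * ∑ w ∈ Finset.univ.filter (fun w => π w = c), secWeight p M b w =
      (Nat.card B : ℂ) := by
  letI : CommGroup π.range :=
    { (inferInstance : Group π.range) with
      mul_comm := fun x y => Subtype.ext (Subtype.ext (hab _ x.1.2 _ y.1.2)) }
  haveI : Finite (π.range →* ℂˣ) := Finite.of_injective _ Chars.linIrr_injective
  haveI := Fintype.ofFinite (π.range →* ℂˣ)
  set c' : π.range := ⟨c, hc⟩
  have hinj : ∀ μ : π.range →* ℂˣ, μ.comp π.rangeRestrict = 1 → μ = 1 := fun μ h => by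
    refine MonoidHom.ext fun x => ?_
    obtain ⟨w, rfl⟩ := π.rangeRestrict_surjective x
    exact DFunLike.congr_fun h w
  calc (Nat.card π.range : ℂ) * ∑ w ∈ Finset.univ.filter (fun w => π w = c), secWeight p M b w
      = ∑ w : b.1, secWeight p M b w *
          ∑ μ : π.range →* ℂˣ, (μ (π.rangeRestrict w * c'⁻¹) : ℂ) := by
        rw [Finset.mul_sum, Finset.sum_filter]
        refine Finset.sum_congr rfl fun w _ => ?_
        rw [sum_monoidHom_units]
        have hiff : π.rangeRestrict w * c'⁻¹ = 1 ↔ π w = c := by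
          rw [mul_inv_eq_one]
          exact ⟨fun h => congrArg Subtype.val h, fun h => Subtype.ext h⟩
        rw [mul_ite, mul_zero]
        simp only [hiff]
        split_ifs <;> ring
    _ = ∑ μ : π.range →* ℂˣ, (μ c'⁻¹ : ℂ) *
          ∑ w : b.1, ((μ.comp π.rangeRestrict) w : ℂ) * secWeight p M b w := by
        simp only [Finset.mul_sum]
        rw [Finset.sum_comm]
        refine Finset.sum_congr rfl fun μ _ => Finset.sum_congr rfl fun w _ => ?_
        rw [map_mul, Units.val_mul, MonoidHom.comp_apply]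
        ring
    _ = _ := by
        rw [Finset.sum_eq_single (1 : π.range →* ℂˣ) (fun μ _ hμ => ?_) (by simp)]
        · rw [sum_hom_mul_secWeight hM hmax hab _ (fun y hy w v h => by simp)]
          simp
        · rw [sum_hom_mul_secWeight hM hmax hab _ (fun y hy w v h => ?_),
            if_neg fun h => hμ (hinj μ h), mul_zero]
          show (μ (π.rangeRestrict v) : ℂ) = μ (π.rangeRestrict w)
          rw [show π.rangeRestrict v = π.rangeRestrict w from Subtype.ext (hπ y hy w v h)]

include hM hmax hab in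
/-- The inertial group induces automorphisms of order prime to `p`. -/
theorem not_dvd_card_aut : ¬ p ∣ Nat.card (autInducedBy (pairStab hmax.1.1.2) b.1) := by
  have hF := isBlockFusionSystemOn_blockSystem hM hmax
  have h := (Fusion.isFullyAutomized_iff.1 (centralized_automized_of_normalized hM hF
    (a := b) Relation.ReflTransGen.refl (Fusion.isFullyNormalized_top _)).2).2
  rw [autGroup_eq hM hF Relation.ReflTransGen.refl hmax.1.1.2] at h
  have hbot : autInducedBy b.1 b.1 = (⊥ : Subgroup (MulAut b.1)) := by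
    refine (Subgroup.eq_bot_iff_forall _).2 fun α hα => ?_
    obtain ⟨g, hg, hga⟩ := Fusion.mem_autInducedBy.1 hα
    refine MulEquiv.ext fun x => Subtype.ext ?_
    rw [hga, hab g hg x x.2, mul_inv_cancel_right]
    rfl
  rw [hbot] at h
  rw [← Subgroup.relIndex_bot_left]
  exact h.2.2

include hM hmax hab in
/-- The projection onto the elements fixed by the inertial group. -/
theorem exists_proj : ∃ π : b.1 →* b.1,
    (∀ y, InStab b y → ∀ w v : b.1, y * (w : G) * y⁻¹ = (v : G) → π v = π w) ∧
    (∀ w : b.1, (∀ y, InStab b y → y * (w : G) * y⁻¹ = (w : G)) → π w = w) ∧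
    ∀ y, InStab b y → ∀ w : b.1, y * (π w : G) * y⁻¹ = (π w : G) := by
  letI : CommGroup b.1 :=
    { (inferInstance : Group b.1) with mul_comm := fun x y => Subtype.ext (hab _ x.2 _ y.2) }
  set A := autInducedBy (pairStab hmax.1.1.2) b.1
  haveI : Finite (MulAut b.1) := Finite.of_injective _ DFunLike.coe_injective
  haveI := Fintype.ofFinite A
  let nrm : b.1 →* b.1 := ∏ α : A, (α : MulAut b.1).toMonoidHom
  have hnrm : ∀ w, nrm w = ∏ α : A, (α : MulAut b.1) w := fun w => by
    simp [nrm, MonoidHom.finsetProd_apply]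
  have hcop : (Nat.card b.1).Coprime (Nat.card A) := by
    rw [NilBlock.card_eq hM hmax]
    exact Nat.Coprime.pow_left _ ((Fact.out : p.Prime).coprime_iff_not_dvd.2
      (not_dvd_card_aut hM hmax hab))
  let e : b.1 ≃* b.1 := MulEquiv.ofBijective (powMonoidHom (Nat.card A)) (powCoprime hcop).bijective
  have hmem : ∀ y, InStab b y → ∃ α : A, ∀ x : b.1, (((α : MulAut b.1) x : b.1) : G) = y * (x : G) * y⁻¹ := by
    intro y hy
    refine ⟨⟨Fusion.conjAut b.1 y ((mem_pairStab_iff hmax.1.1.2).1 hy).1, Fusion.mem_autInducedBy.2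
      ⟨y, hy, fun x => rfl⟩⟩, fun x => rfl⟩
  refine ⟨e.symm.toMonoidHom.comp nrm, fun y hy w v h => ?_, fun w hw => ?_, fun y hy w => ?_⟩
  · obtain ⟨α, hα⟩ := hmem y hy
    have hv : v = (α : MulAut b.1) w := Subtype.ext ((hα w).trans h).symm
    simp only [MonoidHom.comp_apply]
    congr 1
    rw [hnrm, hnrm, hv]
    exact Fintype.prod_equiv (Equiv.mulRight α) _ _ fun β => rfl
  · simp only [MonoidHom.comp_apply]
    have : nrm w = w ^ Nat.card A := by
      rw [hnrm, Finset.prod_congr rfl (g := fun _ => w) fun α _ => ?_, Finset.prod_const,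
        Finset.card_univ, Fintype.card_eq_nat_card]
      obtain ⟨g, hg, hga⟩ := Fusion.mem_autInducedBy.1 α.2
      exact Subtype.ext ((hga w).trans (hw g hg))
    rw [this]
    exact e.symm_apply_apply w
  · obtain ⟨α, hα⟩ := hmem y hy
    rw [← hα]
    congr 1
    refine e.injective ?_
    simp only [MonoidHom.comp_apply, MulEquiv.coe_toMonoidHom, MulEquiv.apply_symm_apply]
    rw [show e ((α : MulAut b.1) (e.symm (nrm w))) = (α : MulAut b.1) (e (e.symm (nrm w))) from
      (map_pow _ _ _).symm, e.apply_symm_apply, hnrm, map_prod]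
    exact Fintype.prod_equiv (Equiv.mulLeft α) _ _ fun β => rfl

end Cfsg.Agent.Lib.AbelianStar
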